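import Mathlib
import Groth.Agent.Lib.Helper14.ComplFlat

/-!
# The map induced on adic completions by a ring homomorphism (helper14)
-/

set_option autoImplicit false
universe u

namespace Groth.Agent.Lib.Helper14.AdicQuotReg

open Groth.Agent.Lib.Helper14.ComplFlat

variable {R S : Type u} [CommRing R] [CommRing S] (φ : R →+* S) (I : Ideal R) (J : Ideal S)
  (h : I.map φ ≤ J)

include h in
theorem pow_le_comap (n : ℕ) : I ^ n ≤ (J ^ n).comap φ := by
  have h1 : I ≤ J.comap φ := Ideal.map_le_iff_le_comap.mp h
  calc I ^ n ≤ (J.comap φ) ^ n := Ideal.pow_right_mono h1 n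
    _ ≤ (J ^ n).comap φ := Ideal.le_comap_pow _ n

/-- the maps `R^ → S/J^n`. -/
noncomputable def adicMapAux (n : ℕ) : AdicCompletion I R →+* S ⧸ J ^ n :=
  (Ideal.quotientMap (J ^ n) φ (pow_le_comap φ I J h n)).comp
    (AdicCompletion.evalₐ I n : _ →+* _)

theorem adicMapAux_compat {m n : ℕ} (hle : m ≤ n) :
    (Ideal.Quotient.factorPow J hle).comp (adicMapAux φ I J h n) = adicMapAux φ I J h m := by
  ext x
  simp only [adicMapAux, RingHom.comp_apply, RingHom.coe_coe]
  rw [← factorPow_evalₐ I hle x]
  obtain ⟨a, ha⟩ := Ideal.Quotient.mk_surjective (AdicCompletion.evalₐ I n x)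
  rw [← ha]
  simp only [Ideal.Quotient.factorPow, Ideal.Quotient.factor_mk, Ideal.quotientMap_mk]

/-- The map induced on adic completions by a ring homomorphism. -/
noncomputable def adicMap : AdicCompletion I R →+* AdicCompletion J S :=
  AdicCompletion.liftRingHom J (adicMapAux φ I J h) (adicMapAux_compat φ I J h)

theorem evalₐ_adicMap (n : ℕ) (x : AdicCompletion I R) :
    AdicCompletion.evalₐ J n (adicMap φ I J h x) =
      Ideal.quotientMap (J ^ n) φ (pow_le_comap φ I J h n) (AdicCompletion.evalₐ I n x) := by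
  rw [adicMap, AdicCompletion.evalₐ_liftRingHom]
  rfl

theorem adicMap_comp :
    (adicMap φ I J h).comp (algebraMap R (AdicCompletion I R)) =
      (algebraMap S (AdicCompletion J S)).comp φ := by
  refine RingHom.ext fun a => ?_
  apply AdicCompletion.ext_evalₐ
  intro n
  simp only [RingHom.comp_apply]
  rw [evalₐ_adicMap]
  have h1 : AdicCompletion.evalₐ I n (algebraMap R (AdicCompletion I R) a) =
      Ideal.Quotient.mk (I ^ n) a := by
    simp [AdicCompletion.algebraMap_apply]
  have h2 : AdicCompletion.evalₐ J n (algebraMap S (AdicCompletion J S) (φ a)) =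
      Ideal.Quotient.mk (J ^ n) (φ a) := by
    simp [AdicCompletion.algebraMap_apply]
  rw [h1, h2, Ideal.quotientMap_mk]

theorem exists_sub_mem_map [IsNoetherianRing S] (x : AdicCompletion J S) :
    ∃ a : S, x - algebraMap S (AdicCompletion J S) a ∈
      J.map (algebraMap S (AdicCompletion J S)) := by
  obtain ⟨a, ha⟩ := Ideal.Quotient.mk_surjective (AdicCompletion.evalOneₐ J x)
  refine ⟨a, ?_⟩
  rw [← AdicCompletion.ker_evalOneₐ_eq_map _ (IsNoetherian.noetherian _), RingHom.mem_ker, map_sub,
    sub_eq_zero]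
  change AdicCompletion.evalOneₐ J x =
    AdicCompletion.evalOneₐ J (algebraMap S (AdicCompletion J S) a)
  rw [← ha]
  have := AdicCompletion.evalOneₐ_comp_algebraMap_eq_mk J
  exact (DFunLike.congr_fun this a).symm

theorem adicMap_surjective [IsNoetherianRing R] [IsNoetherianRing S]
    (hφ : Function.Surjective φ) (hIJ : I.map φ = J) :
    Function.Surjective (adicMap φ I J hIJ.le) := by
  haveI h1 : IsPrecomplete (I.map (algebraMap R (AdicCompletion I R))) (AdicCompletion I R) :=
    (AdicCompletion.isAdicComplete_self I (IsNoetherian.noetherian _)).toIsPrecomplete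
  have hmap : (I.map (algebraMap R (AdicCompletion I R))).map (adicMap φ I J hIJ.le) =
      J.map (algebraMap S (AdicCompletion J S)) := by
    rw [Ideal.map_map, adicMap_comp, ← Ideal.map_map, hIJ]
  haveI h2 : IsHausdorff ((I.map (algebraMap R (AdicCompletion I R))).map
      (adicMap φ I J hIJ.le)) (AdicCompletion J S) := by
    rw [hmap]
    exact (AdicCompletion.isAdicComplete_self J (IsNoetherian.noetherian _)).toIsHausdorff
  apply surjective_of_mk_map_comp_surjective (I := I.map (algebraMap R (AdicCompletion I R)))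
    (adicMap φ I J hIJ.le)
  intro y
  obtain ⟨y0, rfl⟩ := Ideal.Quotient.mk_surjective y
  obtain ⟨s, hs⟩ := exists_sub_mem_map J y0
  obtain ⟨a, rfl⟩ := hφ s
  refine ⟨algebraMap R (AdicCompletion I R) a, ?_⟩
  rw [RingHom.comp_apply]
  have h3 := DFunLike.congr_fun (adicMap_comp φ I J hIJ.le) a
  simp only [RingHom.comp_apply] at h3
  rw [h3, Ideal.Quotient.eq, hmap]
  have : algebraMap S (AdicCompletion J S) (φ a) - y0 =
      -(y0 - algebraMap S (AdicCompletion J S) (φ a)) := by ring
  rw [this]
  exact neg_mem hs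

end Groth.Agent.Lib.Helper14.AdicQuotReg
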