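import Mathlib
import Groth.Prelude.Def_EGA4b
import Groth.Prelude.Def_Found
import Groth.Agent.Lib.Helper14.AdicQuotReg.AdicMap
import Groth.Agent.Lib.Helper14.ExcFC.Exc
import Groth.Agent.Lib.Helper14.ExcellentLoc
import Groth.Agent.Lib.Helper14.GeomRegularSep
import Groth.Agent.Lib.Helper14.NormalHomComp
import Groth.Agent.Lib.Helper14.NormalRing
import Groth.Agent.Lib.Helper14.IadicFibres
import Groth.Agent.Lib.Helper14.IadicFibresReg
import Groth.Agent.Lib.Helper26.RegularCompletion
import Groth.Agent.S0542

/-!
# Adic completions of localizations of excellent normal quotients of regular rings (helper14)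
-/

set_option autoImplicit false
universe u

namespace Groth.Agent.Lib.Helper14.AdicQuotReg

open IsLocalRing TensorProduct EGA4

/-- A regular homomorphism is a normal homomorphism. -/
theorem isNormalHom_of_isRegularHom (A B : Type u) [CommRing A] [CommRing B] [Algebra A B]
    (h : CAlg.IsRegularHom A B) : EGA4.IsNormalHom A B := by
  refine ⟨h.1, ?_⟩
  intro p hp k' _ _ hfin
  haveI := (h.2 p).2 k' hfin
  exact Groth.Agent.Lib.Helper14.ExcFC.isNormalRing_of_isRegularRing _

/-- The adic completion of an excellent normal ring along any ideal is a normal ring. -/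
theorem isNormalRing_adicCompletion_of_isExcellent (B : Type u) [CommRing B]
    (hB : EGA4.IsExcellent B) (hN : EGA4.IsNormalRing B) (J : Ideal B) :
    EGA4.IsNormalRing (AdicCompletion J B) := by
  haveI : IsNoetherianRing B := hB.1
  haveI : IsNoetherianRing (AdicCompletion J B) :=
    Groth.Agent.S0542.result B J (IsNoetherian.noetherian _)
  have hreg := Groth.Agent.Lib.Helper14.IadicFibresReg.isRegularHom_adicCompletion B hB.2.2.1 J
  exact Groth.Agent.Lib.Helper14.NormalHomComp.isNormalRing_of_isNormalHom B (AdicCompletion J B)
    (isNormalHom_of_isRegularHom B _ hreg) hN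

/-- A surjection `R → A` induces a surjection `R_g → A_{φ g}`. -/
theorem awayMap_surjective {R A : Type u} [CommRing R] [CommRing A] (φ : R →+* A)
    (hφ : Function.Surjective φ) (g : R) :
    Function.Surjective (IsLocalization.Away.map (Localization.Away g)
      (Localization.Away (φ g)) φ g) := by
  intro x
  obtain ⟨a, s, rfl⟩ := IsLocalization.exists_mk'_eq (Submonoid.powers (φ g)) x
  obtain ⟨n, hn⟩ := s.2
  obtain ⟨r, rfl⟩ := hφ a
  refine ⟨IsLocalization.mk' (Localization.Away g) r
    (⟨g ^ n, ⟨n, rfl⟩⟩ : Submonoid.powers g), ?_⟩
  rw [IsLocalization.Away.map, IsLocalization.map_mk']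
  congr 1
  apply Subtype.ext
  simp only [map_pow]
  exact hn

/-- A quotient of a regular ring: the adic completion of a localization `A_f` of a quotient `A`
of a regular ring is again a quotient of a regular ring. -/
theorem exists_regular_surjective_adicCompletion_away (A : Type u) [CommRing A]
    (hreg : ∃ (R : Type u) (_ : CommRing R) (_ : IsRegularRing R) (φ : R →+* A),
      Function.Surjective φ) (f : A) (J : Ideal (Localization.Away f)) :
    ∃ (R' : Type u) (_ : CommRing R') (_ : IsRegularRing R')
      (ψ : R' →+* AdicCompletion J (Localization.Away f)), Function.Surjective ψ := by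
  obtain ⟨R, _, hR, φ, hφ⟩ := hreg
  obtain ⟨g, rfl⟩ := hφ f
  haveI : IsNoetherianRing R := inferInstance
  haveI : IsRegularRing (Localization.Away g) :=
    Groth.Agent.Lib.Helper14.GeomRegularSep.isRegularRing_of_isLocalization
      (Submonoid.powers g) (Localization.Away g)
  haveI : IsNoetherianRing (Localization.Away g) := inferInstance
  haveI : IsNoetherianRing A := isNoetherianRing_of_surjective R A φ hφ
  haveI : IsNoetherianRing (Localization.Away (φ g)) :=
    IsLocalization.isNoetherianRing (Submonoid.powers (φ g)) _ inferInstance
  set φg := IsLocalization.Away.map (Localization.Away g) (Localization.Away (φ g)) φ g with hφg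
  have hsurj : Function.Surjective φg := awayMap_surjective φ hφ g
  have hIJ : (J.comap φg).map φg = J := Ideal.map_comap_of_surjective φg hsurj J
  haveI : IsRegularRing (AdicCompletion (J.comap φg) (Localization.Away g)) :=
    Groth.Agent.Lib.Helper26.RegularCompletion.isRegularRing_adicCompletion _ _
  exact ⟨AdicCompletion (J.comap φg) (Localization.Away g), inferInstance, inferInstance,
    adicMap φg (J.comap φg) J hIJ.le, adicMap_surjective φg (J.comap φg) J hsurj hIJ⟩

theorem main (A : Type u) [CommRing A] [IsDomain A] [IsIntegrallyClosed A]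
    (hexc : EGA4.IsExcellent A)
    (hreg : ∃ (R : Type u) (_ : CommRing R) (_ : IsRegularRing R) (φ : R →+* A),
      Function.Surjective φ) (I : Ideal A) (f : A) :
    EGA4.IsNormalRing (AdicCompletion (I.map (algebraMap A (Localization.Away f)))
        (Localization.Away f)) ∧
      ∃ (R' : Type u) (_ : CommRing R') (_ : IsRegularRing R')
        (ψ : R' →+* AdicCompletion (I.map (algebraMap A (Localization.Away f)))
          (Localization.Away f)), Function.Surjective ψ := by
  refine ⟨?_, exists_regular_surjective_adicCompletion_away A hreg f _⟩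
  have hB : EGA4.IsExcellent (Localization.Away f) :=
    Groth.Agent.Lib.Helper14.ExcellentLoc.isExcellent_localization A (Submonoid.powers f)
      (Localization.Away f) hexc
  have hN : EGA4.IsNormalRing (Localization.Away f) :=
    Groth.Agent.Lib.Helper14.isNormalRing_of_isLocalization (Submonoid.powers f)
      (Localization.Away f)
      (Groth.Agent.Lib.Helper14.IadicFibres.isNormalRing_of_isIntegrallyClosed A)
  exact isNormalRing_adicCompletion_of_isExcellent _ hB hN _

end Groth.Agent.Lib.Helper14.AdicQuotReg
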